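import Groth.Prelude
import Mathlib.RingTheory.AdicCompletion.AsTensorProduct

/-!
For an F-finite Noetherian ring of characteristic `p`, adic completion is relatively perfect:
`Â ⊗_{A,F} A` is the completion of `F_*A`, and `(I^n)^{[p]}` is cofinal with the powers of `I`.
-/

universe u

namespace Groth.Agent.FrobAlg43

open TensorProduct FrobAlg AdicCompletion

variable (p : ℕ) [Fact p.Prime] (A : Type u) [CommRing A] [IsNoetherianRing A] [CharP A p]
  (I : Ideal A)

lemma mem_smul_top_iff (n : ℕ) (x : Twist p A) :
    x ∈ (I ^ n • ⊤ : Submodule A (Twist p A)) ↔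
      (toTwist p A).symm x ∈ (I ^ n).map (frobenius A p) := by
  rw [Ideal.smul_top_eq_map, Submodule.restrictScalars_mem]
  exact Iff.rfl

lemma map_frobenius_le (n : ℕ) : (I ^ n).map (frobenius A p) ≤ I ^ n :=
  Ideal.map_le_iff_le_comap.mpr fun x hx => by
    rw [Ideal.mem_comap, frobenius_def]
    exact Ideal.pow_mem_of_mem _ hx p (Fact.out : p.Prime).pos

lemma exists_pow_le (n : ℕ) : ∃ N, n ≤ N ∧ I ^ N ≤ (I ^ n).map (frobenius A p) := by
  obtain ⟨N, hN⟩ := Ideal.exists_pow_le_of_le_radical_of_fg (I := I)
    (J := (I ^ n).map (frobenius A p)) (fun x hx => ⟨n * p, by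
      rw [pow_mul, ← frobenius_def p (x ^ n)]
      exact Ideal.mem_map_of_mem _ (Ideal.pow_mem_pow hx n)⟩) I.fg_of_isNoetherianRing
  exact ⟨max n N, le_max_left _ _, (Ideal.pow_le_pow_right (le_max_right _ _)).trans hN⟩

lemma mk_eq_mk_iff (n : ℕ) (a b : A) :
    (Submodule.Quotient.mk a : A ⧸ (I ^ n • ⊤ : Submodule A A)) = Submodule.Quotient.mk b ↔
      a - b ∈ I ^ n := by
  rw [Submodule.Quotient.eq, smul_eq_mul, Ideal.mul_top]

/-- completion of `F_*A` to `Â`, on Cauchy sequences -/
noncomputable def toHat (x : AdicCompletion I (Twist p A)) : AdicCompletion I A :=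
  ⟨fun n => Submodule.Quotient.mk ((toTwist p A).symm (Quotient.out (x.val n))), fun {m n} hmn => by
    change Submodule.Quotient.mk ((toTwist p A).symm (Quotient.out (x.val n))) =
      (Submodule.Quotient.mk _ : A ⧸ (I ^ m • ⊤ : Submodule A A))
    rw [mk_eq_mk_iff, ← map_sub]
    have h : Quotient.out (x.val n) - Quotient.out (x.val m) ∈
        (I ^ m • ⊤ : Submodule A (Twist p A)) := by
      rw [← Submodule.Quotient.eq]
      have := x.property hmn
      rw [← Submodule.Quotient.mk_out (x.val n), ← Submodule.Quotient.mk_out (x.val m)] at this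
      exact this
    exact map_frobenius_le p A I m ((mem_smul_top_iff p A I m _).mp h)⟩

lemma toHat_mk (t : AdicCauchySequence I (Twist p A)) (n : ℕ) :
    (toHat p A I (AdicCompletion.mk I (Twist p A) t)).val n =
      Submodule.Quotient.mk ((toTwist p A).symm (t n)) := by
  change Submodule.Quotient.mk _ = _
  rw [mk_eq_mk_iff, ← map_sub]
  refine map_frobenius_le p A I n ((mem_smul_top_iff p A I n _).mp ?_)
  rw [← Submodule.Quotient.eq, Submodule.Quotient.mk_out]
  rfl

lemma toHat_bijective : Function.Bijective (toHat p A I) := by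
  choose N hnN hN using exists_pow_le p A I
  constructor
  · intro x y hxy
    induction x using AdicCompletion.induction_on with | _ s => ?_
    induction y using AdicCompletion.induction_on with | _ t => ?_
    refine AdicCompletion.ext fun n => ?_
    change Submodule.Quotient.mk (s n) = Submodule.Quotient.mk (t n)
    have h := congr_arg (fun z => z.val (N n)) hxy
    simp only [toHat_mk] at h
    rw [mk_eq_mk_iff, ← map_sub] at h
    have h' : s (N n) - t (N n) ∈ (I ^ n • ⊤ : Submodule A (Twist p A)) :=
      (mem_smul_top_iff p A I n _).mpr (hN n h)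
    rw [Submodule.Quotient.eq]
    have hs : s n - s (N n) ∈ (I ^ n • ⊤ : Submodule A (Twist p A)) :=
      SModEq.sub_mem.mp (s.property (hnN n))
    have ht : t n - t (N n) ∈ (I ^ n • ⊤ : Submodule A (Twist p A)) :=
      SModEq.sub_mem.mp (t.property (hnN n))
    have e : s n - t n = (s n - s (N n)) + (s (N n) - t (N n)) - (t n - t (N n)) := by abel
    rw [e]
    exact sub_mem (add_mem hs h') ht
  · intro y
    induction y using AdicCompletion.induction_on with | _ s => ?_
    have hs : ∀ {m n}, m ≤ n → s m - s n ∈ I ^ m := fun h => by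
      simpa using SModEq.sub_mem.mp (s.property h)
    let t : AdicCauchySequence I (Twist p A) :=
      ⟨fun n => toTwist p A (s (N n)), fun {m n} hmn => by
        rw [SModEq.sub_mem, ← map_sub, mem_smul_top_iff, RingEquiv.symm_apply_apply]
        rcases le_total (N m) (N n) with h | h
        · exact hN m (hs h)
        · exact Ideal.map_mono (Ideal.pow_le_pow_right hmn) (hN n (by
            rw [← neg_mem_iff, neg_sub]; exact hs h))⟩
    refine ⟨AdicCompletion.mk I _ t, AdicCompletion.ext fun n => ?_⟩
    rw [toHat_mk]
    change Submodule.Quotient.mk (s (N n)) = Submodule.Quotient.mk (s n)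
    rw [mk_eq_mk_iff, ← neg_mem_iff, neg_sub]
    exact hs (hnN n)

lemma toHat_add (x y : AdicCompletion I (Twist p A)) :
    toHat p A I (x + y) = toHat p A I x + toHat p A I y := by
  induction x using AdicCompletion.induction_on with | _ s => ?_
  induction y using AdicCompletion.induction_on with | _ t => ?_
  refine AdicCompletion.ext fun n => ?_
  rw [← map_add, toHat_mk, AdicCompletion.val_add, Pi.add_apply, toHat_mk, toHat_mk]
  rfl

theorem main [CharP (AdicCompletion I A) p] (hF : (frobenius A p).Finite) :
    Function.Bijective (relFrob p A (AdicCompletion I A)) := by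
  have : Module.Finite A (Twist p A) := hF
  have key : ∀ z, relFrob p A (AdicCompletion I A) z =
      toHat p A I (ofTensorProduct I (Twist p A) z) := by
    intro z
    induction z using TensorProduct.induction_on with
    | zero =>
      rw [_root_.map_zero, _root_.map_zero]
      refine AdicCompletion.ext fun n => ?_
      rw [← _root_.map_zero (AdicCompletion.mk I (Twist p A)), toHat_mk]
      simp
    | add a b ha hb => rw [map_add, map_add, ha, hb, toHat_add]
    | tmul b a =>
      rw [ofTensorProduct_tmul]
      change b ^ p * algebraMap A (AdicCompletion I A) ((toTwist p A).symm a) = _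
      induction b using AdicCompletion.induction_on with | _ s => ?_
      let t : AdicCauchySequence I (Twist p A) := ⟨fun n => s n • a, fun {m n} hmn => by
        rw [SModEq.sub_mem, ← sub_smul]
        exact Submodule.smul_mem_smul (by simpa using SModEq.sub_mem.mp (s.property hmn)) trivial⟩
      have ht : AdicCompletion.mk I A s • AdicCompletion.of I (Twist p A) a =
          AdicCompletion.mk I (Twist p A) t := AdicCompletion.ext fun n => rfl
      rw [ht]
      refine AdicCompletion.ext fun n => ?_
      rw [toHat_mk]
      change _ = Submodule.Quotient.mk ((toTwist p A).symm (toTwist p A (s n ^ p) * a))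
      rw [map_mul, RingEquiv.symm_apply_apply]
      rfl
  have : ⇑(relFrob p A (AdicCompletion I A)) =
      toHat p A I ∘ ofTensorProduct I (Twist p A) := funext key
  rw [this]
  exact (toHat_bijective p A I).comp
    (ofTensorProduct_bijective_of_finite_of_isNoetherian I (Twist p A))

end Groth.Agent.FrobAlg43
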